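import Mathlib.LinearAlgebra.Matrix.Charpoly.FiniteField
import Mathlib.RingTheory.Trace.Basic
import Mathlib.Algebra.Polynomial.Expand

/-!
# The trace commutes with the Frobenius
-/

set_option autoImplicit false

universe u v

open Polynomial Matrix

namespace Groth.Agent.FrobSplit18160

variable {R : Type u} [CommRing R] {n : Type v} [DecidableEq n] [Fintype n] (p : ℕ) [Fact p.Prime]

theorem charP_of_natCast [Nontrivial R] (h : (p : R) = 0) : CharP R p :=
  (CharP.charP_iff_prime_eq_zero Fact.out).2 h

theorem charpoly_pow_char [CharP R p] (M : Matrix n n R) :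
    (M ^ p).charpoly = M.charpoly.map (frobenius R p) := by
  cases (isEmpty_or_nonempty n).symm
  · have : Nonempty n := ‹_›
    apply expand_injective (Fact.out : p.Prime).pos
    have h : M.charpoly ^ p = expand R p (M ^ p).charpoly := by
      unfold charpoly
      rw [AlgHom.map_det, ← coe_detMonoidHom, ← (detMonoidHom : Matrix n n R[X] →* R[X]).map_pow]
      apply congr_arg det
      refine matPolyEquiv.injective ?_
      rw [map_pow, matPolyEquiv_charmatrix, sub_pow_char_of_commute, ← C_pow]
      · exact (id (matPolyEquiv_eq_X_pow_sub_C p M) :).symm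
      · exact (C M).commute_X
    rw [← h, ← map_expand, map_frobenius_expand]
  · simp [charpoly, charmatrix, Matrix.det_isEmpty]

theorem trace_pow_char [CharP R p] (M : Matrix n n R) : trace (M ^ p) = trace M ^ p := by
  cases isEmpty_or_nonempty n
  · simp [Matrix.trace, zero_pow (Fact.out : p.Prime).ne_zero]
  rw [Matrix.trace_eq_neg_charpoly_coeff, Matrix.trace_eq_neg_charpoly_coeff, charpoly_pow_char p,
    Polynomial.coeff_map, frobenius_def]
  have := (frobenius R p).map_neg (M.charpoly.coeff (Fintype.card n - 1))
  simp only [frobenius_def] at this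
  exact this.symm

theorem algebra_trace_pow_char {S : Type v} [CommRing S] [Algebra R S] [Module.Free R S] [Module.Finite R S]
    (h : (p : R) = 0) (a : S) : Algebra.trace R S (a ^ p) = Algebra.trace R S a ^ p := by
  rcases subsingleton_or_nontrivial R with hR | hR
  · exact Subsingleton.elim _ _
  have := charP_of_natCast p h
  classical
  let b := Module.Free.chooseBasis R S
  rw [Algebra.trace_eq_matrix_trace b, Algebra.trace_eq_matrix_trace b, map_pow, trace_pow_char]

end Groth.Agent.FrobSplit18160
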