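import Groth.Prelude.Def_Frob
import Groth.Prelude.Def_ClSub2
import Groth.Agent.FinCov71.Trace
import Groth.Agent.FrobSplit18160.TracePow
import Groth.Agent.QCoh.Exact
import Groth.Agent.QCoh.Qcqs

/-!
# Frobenius and direct images along finite flat morphisms
-/

set_option autoImplicit false
set_option backward.isDefEq.respectTransparency false
set_option backward.isDefEq.respectTransparency.types false

universe u v w

open CategoryTheory CategoryTheory.Limits AlgebraicGeometry Opposite TopologicalSpace Groth.Agent.FinCov71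

noncomputable section

namespace Groth.Agent.FrobSplit18160

/-- A left exact functor maps a right exact sequence to one as soon as it keeps the two epimorphisms epi. -/
theorem exact_map_of_epi {C : Type*} [Category C] [Abelian C] {D : Type*} [Category D] [Abelian D] (F : C ⥤ D)
    [F.PreservesZeroMorphisms] (S : ShortComplex C) [PreservesLimit (parallelPair S.g 0) F]
    (h : Epi (F.map (kernel.lift S.g S.f S.zero))) : (S.map F).Exact := by
  rw [ShortComplex.exact_iff_epi_kernel_lift]
  have e : kernel.lift (S.map F).g (S.map F).f (S.map F).zero =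
      F.map (kernel.lift S.g S.f S.zero) ≫ kernelComparison S.g F := by
    apply equalizer.hom_ext
    refine (kernel.lift_ι _ _ _).trans ?_
    change F.map S.f = (F.map (kernel.lift S.g S.f S.zero) ≫ kernelComparison S.g F) ≫ kernel.ι (F.map S.g)
    rw [Category.assoc, kernelComparison_comp_ι, ← F.map_comp, kernel.lift_ι]
  rw [e]
  exact epi_comp _ _

variable {X Y : Scheme.{u}} (f : Y ⟶ X)

theorem map_self (P : TopCat.Presheaf AddCommGrpCat.{u} Y.carrier) {U : Y.Opens} (h : op U ⟶ op U) (b : P.obj (op U)) :
    P.map h b = b := by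
  rw [Subsingleton.elim h (𝟙 _), CategoryTheory.Functor.map_id]
  rfl

/-- Morphisms of modules surjective on affine sections are epimorphisms. -/
theorem epi_of_affine_surjective {M N : X.Modules} (φ : M ⟶ N)
    (h : ∀ V : X.Opens, IsAffineOpen V → Function.Surjective (φ.app V)) : Epi φ := by
  refine ⟨fun {P} a b hab => Scheme.Modules.hom_ext _ _ fun U => ?_⟩
  ext s
  refine eq_of_locally P _ _ fun x hx => ?_
  obtain ⟨_, ⟨V, hV, rfl⟩, hxV, hVU⟩ := X.isBasis_affineOpens.exists_subset_of_mem_open hx U.2
  refine ⟨V, hVU, hxV, ?_⟩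
  obtain ⟨m, hm⟩ := h V hV (N.presheaf.map (homOfLE (show V ≤ U from hVU)).op s)
  refine (NatTrans.naturality_apply a.mapPresheaf (homOfLE (show V ≤ U from hVU)).op s).symm.trans ?_
  refine Eq.trans ?_ (NatTrans.naturality_apply b.mapPresheaf (homOfLE (show V ≤ U from hVU)).op s)
  change a.app V _ = b.app V _
  rw [← hm]
  exact congrArg (fun k : M ⟶ P => k.app V m) hab

/-- Direct images along affine morphisms keep epimorphisms of quasi-coherent modules. -/
theorem epi_push [IsAffineHom f] {M N : Y.Modules} [M.IsQuasicoherent] [N.IsQuasicoherent] (φ : M ⟶ N) [Epi φ] :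
    Epi ((Scheme.Modules.pushforward f).map φ) :=
  epi_of_affine_surjective _ fun _ hV => QCoh.app_surjective_of_epi φ (hV.preimage f)

variable (p : ℕ) [Fact p.Prime] [FrobSch.IsCharP X p] [FrobSch.IsCharP Y p]

instance isAffineHom_frob : IsAffineHom (FrobSch.frob X p) := ⟨fun _ hU => hU⟩

/-- Frobenius commutes with direct images. -/
def pushFrobIso : (Scheme.Modules.pushforward f).obj (Coh.structureModule Y) ⟶
    (Scheme.Modules.pushforward f).obj ((Scheme.Modules.pushforward (FrobSch.frob Y p)).obj (Coh.structureModule Y)) :=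
  (Scheme.Modules.pushforward f).map (ClSub.unitToPush (FrobSch.frob Y p))

/-- The identification of the two composite direct images. -/
def pushComm : (Scheme.Modules.pushforward (FrobSch.frob X p)).obj
      ((Scheme.Modules.pushforward f).obj (Coh.structureModule Y)) ≅
    (Scheme.Modules.pushforward f).obj ((Scheme.Modules.pushforward (FrobSch.frob Y p)).obj (Coh.structureModule Y)) :=
  (Scheme.Modules.pushforwardComp f (FrobSch.frob X p)).app _ ≪≫
    (Scheme.Modules.pushforwardCongr (FrobSch.frob_comp p f).symm).app _ ≪≫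
      ((Scheme.Modules.pushforwardComp (FrobSch.frob Y p) f).app _).symm

theorem pushComm_hom_app (U : X.Opens) (b : Γ(Y, f ⁻¹ᵁ U)) :
    (pushComm f p).hom.app U b = b := by
  exact map_self (U := f ⁻¹ᵁ U) (Coh.structureModule Y).presheaf _ b

theorem pushComm_inv_app (U : X.Opens) (b : Γ(Y, f ⁻¹ᵁ U)) :
    (pushComm f p).inv.app U b = b := by
  have h := congrArg (fun k : (Scheme.Modules.pushforward (FrobSch.frob X p)).obj
      ((Scheme.Modules.pushforward f).obj (Coh.structureModule Y)) ⟶ _ => k.app U b) (pushComm f p).hom_inv_id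
  change (pushComm f p).inv.app U ((pushComm f p).hom.app U b) = b at h
  rwa [pushComm_hom_app] at h

variable [QuasiCompact f] [QuasiSeparated f]

/-- The algebra `f_* O_Y`. -/
abbrev alg : RelSpec.QCAlg X := RelSpec.QCAlg.directImage f

/-- The algebra `f_* O_Y` as the direct image module. -/
def algIso : (alg f).toModule ≅ (Scheme.Modules.pushforward f).obj (Coh.structureModule Y) where
  hom := ⟨PresheafOfModules.homMk
    { app := fun U => AddCommGrpCat.ofHom (AddMonoidHom.id _)
      naturality := fun U V i => rfl } fun U r m => rfl⟩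
  inv := ⟨PresheafOfModules.homMk
    { app := fun U => AddCommGrpCat.ofHom (AddMonoidHom.id _)
      naturality := fun U V i => rfl } fun U r m => rfl⟩
  hom_inv_id := rfl
  inv_hom_id := rfl

variable (hA : FlatMod.IsFinLocFree (alg f).toModule)

/-- The trace on the direct image. -/
def trPush : (Scheme.Modules.pushforward f).obj (Coh.structureModule Y) ⟶ Coh.structureModule X :=
  (algIso f).inv ≫ trHom hA

theorem unit_comp_trPush {d : ℕ} (hd : FlatMod.IsFinLocFreeOfRank d (alg f).toModule) :
    ClSub.unitToPush f ≫ trPush f hA = d • 𝟙 (Coh.structureModule X) :=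
  strMod_comp (trHom hA) hd (isTrace_trHom hA)

theorem trPush_pow (U : X.Opens) (b : Γ(Y, f ⁻¹ᵁ U)) :
    (trPush f hA).app U (show Γ(Y, f ⁻¹ᵁ U) from b ^ p) = (show Γ(X, U) from (trPush f hA).app U b) ^ p := by
  refine eq_of_locally (Coh.structureModule X) (U := U) _ _ fun x hx => ?_
  obtain ⟨V, hxV, hVU, hV, hf⟩ := exists_affine_hasFrame hA hx
  refine ⟨V, hVU, hxV, ?_⟩
  change resO hVU (trAt hA (show Sec (alg f) U from b ^ p)) = resO hVU ((trAt hA (show Sec (alg f) U from b)) ^ p)
  rw [map_pow, isTr_trAt hA _ V hVU hf, isTr_trAt hA _ V hVU hf, map_pow]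
  have := hf.free.1
  have := hf.free.2
  exact algebra_trace_pow_char p (FrobSch.natCast_eq_zero_app X p V) _

/-- The Frobenius square of the inclusion. -/
theorem unit_square : ClSub.unitToPush (FrobSch.frob X p) ≫
      (Scheme.Modules.pushforward (FrobSch.frob X p)).map (ClSub.unitToPush f) ≫ (pushComm f p).hom =
    ClSub.unitToPush f ≫ pushFrobIso f p := by
  refine Scheme.Modules.hom_ext _ _ fun U => ?_
  ext a
  change (pushComm f p).hom.app U (show Γ(Y, f ⁻¹ᵁ U) from f.app U ((show Γ(X, U) from a) ^ p)) =
    (show Γ(Y, f ⁻¹ᵁ U) from f.app U a) ^ p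
  rw [pushComm_hom_app]
  exact map_pow (f.app U).hom _ p

/-- The Frobenius square of the trace. -/
theorem trace_square : pushFrobIso f p ≫ (pushComm f p).inv ≫
      (Scheme.Modules.pushforward (FrobSch.frob X p)).map (trPush f hA) =
    trPush f hA ≫ ClSub.unitToPush (FrobSch.frob X p) := by
  refine Scheme.Modules.hom_ext _ _ fun U => ?_
  ext b
  change (trPush f hA).app U ((pushComm f p).inv.app U (show Γ(Y, f ⁻¹ᵁ U) from (show Γ(Y, f ⁻¹ᵁ U) from b) ^ p)) =
    (show Γ(X, U) from (trPush f hA).app U b) ^ p
  rw [pushComm_inv_app]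
  exact trPush_pow f p hA U b

end Groth.Agent.FrobSplit18160
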